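import Groth.Agent.PushDepth8.Glue
import Groth.Agent.CommAlg6.DepthOne
import Groth.Agent.CAlgH3.Depth
import Groth.Agent.Misc15.StalkLoc
import Groth.Prelude.Def_FlatMod2
import Mathlib.RingTheory.Regular.Flat

/-!
# Depth of the stalks of a direct image
-/

set_option autoImplicit false
set_option linter.style.haveILetI false
set_option backward.isDefEq.respectTransparency false
set_option backward.isDefEq.respectTransparency.types false

universe u

open CategoryTheory AlgebraicGeometry TopologicalSpace Opposite IsLocalRing RingTheory.Sequence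
open scoped Pointwise TensorProduct

namespace Groth.Agent.PushDepth8

variable {X S : Scheme.{u}} {f : X ⟶ S} {s : S} (F : X.Modules)

/-- A proper generalization sees some germ of the maximal ideal as a unit. -/
theorem specializes_of_forall_not_isUnit {z : X} (h : f z ⤳ s)
    (hu : ∀ a ∈ maximalIdeal (S.presheaf.stalk s), ¬ IsUnit (alpha z h a)) : f z = s := by
  refine (h.antisymm ((specializes_iff_forall_open).2 fun U hU hzU => ?_)).eq
  obtain ⟨V, hV, hsV, -⟩ := exists_isAffineOpen_mem_and_subset (U := (⊤ : S.Opens)) (x := s) trivial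
  obtain ⟨a, hle, ha⟩ := hV.exists_basicOpen_le (V := ⟨U, hU⟩) ⟨f z, hzU⟩ (h.mem_open V.2 hsV)
  by_contra hs
  have hm : S.presheaf.germ V s hsV a ∈ maximalIdeal (S.presheaf.stalk s) := fun hua =>
    hs (hle ((S.mem_basicOpen a s hsV).2 hua))
  refine hu _ hm ?_
  rw [alpha_germ]
  exact (X.mem_basicOpen _ z _).1 ((Scheme.preimage_basicOpen f a).le ha)

section

variable [QuasiCompact f] [QuasiSeparated f] [Module.Finite (S.presheaf.stalk s) (St f s F)]

/-- Off the image the direct image has depth at least two. -/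
theorem two_le_depth_of_notMem [IsNoetherianRing (S.presheaf.stalk s)] (hs : s ∉ Set.range f) :
    (2 : ℕ∞) ≤ _root_.LocCoh.depth (S.presheaf.stalk s) (St f s F) := by
  classical
  let R := S.presheaf.stalk s
  let M := St f s F
  obtain ⟨k, g, hg⟩ := Submodule.fg_iff_exists_fin_generating_family.1 (IsNoetherian.noetherian (maximalIdeal R))
  have hgm : ∀ i, g i ∈ maximalIdeal R := fun i => hg.le (Submodule.subset_span ⟨i, rfl⟩)
  have hunit : ∀ z (h : f z ⤳ s), ∃ i, IsUnit (alpha z h (g i)) := fun z h => by
    by_contra hc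
    push Not at hc
    refine hs ⟨z, specializes_of_forall_not_isUnit h fun a ha hua => ?_⟩
    have hle : Submodule.span R (Set.range g) ≤ (maximalIdeal (X.presheaf.stalk z)).comap (alpha z h) :=
      Submodule.span_le.2 (by rintro _ ⟨i, rfl⟩; exact hc i)
    exact (hle (hg.ge ha) : alpha z h a ∈ maximalIdeal _) hua
  have hinj : ∀ z (h : f z ⤳ s) (v : F.presheaf.stalk z), (∀ i, alpha z h (g i) • v = 0) → v = 0 := by
    intro z h v hv
    obtain ⟨i, hi⟩ := hunit z h
    exact hi.smul_eq_zero.1 (hv i)
  have hzero : ∀ m : M, (∀ a ∈ maximalIdeal R, a • m = 0) → m = 0 := fun m hm =>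
    phi_injective F m fun z h => hinj z h _ fun i => by rw [← phi_smul, hm _ (hgm i), map_zero]
  by_cases hM : Subsingleton M
  · exact (le_top : (2 : ℕ∞) ≤ ⊤).trans_eq (LocCoh.idealDepth_eq_top _ M (Subsingleton.elim _ _)).symm
  rw [not_subsingleton_iff_nontrivial] at hM
  have hnot : maximalIdeal R ∉ associatedPrimes R M := by
    intro hm
    obtain ⟨hp, m, hmm⟩ := isAssociatedPrime_iff.1 hm
    have hm0 : m = 0 := hzero m fun a ha => by
      rw [hmm, Submodule.mem_colon_singleton, Submodule.mem_bot] at ha
      exact ha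
    refine hp.ne_top (hmm.trans ((Ideal.eq_top_iff_one _).2 ?_))
    rw [Submodule.mem_colon_singleton, Submodule.mem_bot, one_smul, hm0]
  obtain ⟨x, hxm, hx⟩ := CAlgH3.exists_regular_iff_notMem_associatedPrimes.2 hnot
  rw [← CAlgH3.depth_quotSMulTop_add_one hxm hx]
  refine (CAlgH3.natCast_add_one_le_iff (n := 1)).mpr ?_
  rw [Nat.cast_one, CommAlg6.one_le_depth_iff]
  intro hm
  obtain ⟨hp, q, hq⟩ := isAssociatedPrime_iff.1 hm
  obtain ⟨n, rfl⟩ := Submodule.Quotient.mk_surjective _ q
  have hmem : ∀ i, ∃ w : M, x • w = g i • n := fun i => by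
    have := hq.le (hgm i)
    rw [Submodule.mem_colon_singleton, Submodule.mem_bot, ← Submodule.Quotient.mk_smul,
      Submodule.Quotient.mk_eq_zero, Submodule.mem_smul_pointwise_iff_exists] at this
    obtain ⟨w, -, hw⟩ := this
    exact ⟨w, hw⟩
  choose w hw using hmem
  have hcross : ∀ i j, g j • w i = g i • w j := fun i j => hx (by
    show x • g j • w i = x • g i • w j
    rw [smul_comm x, hw i, smul_comm x, hw j, smul_comm])
  obtain ⟨w₀, hw₀⟩ := exists_solution F g w hinj fun z h => by
    obtain ⟨j, hj⟩ := hunit z h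
    refine ⟨(hj.unit⁻¹ : (X.presheaf.stalk z)ˣ) • phi F z h (w j), fun i => ?_⟩
    rw [smul_comm, ← phi_smul, ← hcross i j, phi_smul]
    exact inv_smul_smul hj.unit _
  have hn : x • w₀ = n := sub_eq_zero.1 (hzero _ fun a ha => by
    have hle : Submodule.span R (Set.range g) ≤ LinearMap.ker (LinearMap.toSpanSingleton R M (x • w₀ - n)) :=
      Submodule.span_le.2 (by
        rintro _ ⟨i, rfl⟩
        show g i • (x • w₀ - n) = 0
        rw [smul_sub, smul_comm, hw₀ i, hw i, sub_self])
    exact hle (hg.ge ha))
  refine hp.ne_top (hq.trans ((Ideal.eq_top_iff_one _).2 ?_))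
  rw [Submodule.mem_colon_singleton, Submodule.mem_bot, one_smul, Submodule.Quotient.mk_eq_zero,
    Submodule.mem_smul_pointwise_iff_exists]
  exact ⟨w₀, trivial, hn⟩

omit [Module.Finite (S.presheaf.stalk s) (St f s F)] in
/-- A regular sequence of length at most two stays weakly regular on the direct image of a flat module. -/
theorem isWeaklyRegular_of_flat (hF : FlatMod.IsFlatOver f F) (rs : List (S.presheaf.stalk s))
    (hlen : rs.length ≤ 2) (hrs : IsWeaklyRegular (S.presheaf.stalk s) rs) :
    IsWeaklyRegular (St f s F) rs := by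
  have hloc : ∀ z (h : f z ⤳ s), (letI := Module.compHom (F.presheaf.stalk z) (alpha z h)
      IsWeaklyRegular (F.presheaf.stalk z) rs) := by
    intro z h
    letI : Algebra (S.presheaf.stalk s) (S.presheaf.stalk (f z)) := (S.presheaf.stalkSpecializes h).hom.toAlgebra
    letI : Module (S.presheaf.stalk (f z)) (F.presheaf.stalk z) := FlatMod.moduleStalkOver f F z
    letI : Module (S.presheaf.stalk s) (F.presheaf.stalk z) := Module.compHom _ (alpha z h)
    haveI : IsScalarTower (S.presheaf.stalk s) (S.presheaf.stalk (f z)) (F.presheaf.stalk z) :=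
      IsScalarTower.of_algebraMap_smul fun _ _ => rfl
    haveI : Module.Flat (S.presheaf.stalk (f z)) (F.presheaf.stalk z) := hF z
    haveI : Module.Flat (S.presheaf.stalk s) (S.presheaf.stalk (f z)) := Misc15.flat_stalkSpecializes h
    haveI : Module.Flat (S.presheaf.stalk s) (F.presheaf.stalk z) :=
      Module.Flat.trans (S.presheaf.stalk s) (S.presheaf.stalk (f z)) _
    exact ((TensorProduct.lid (S.presheaf.stalk s) (F.presheaf.stalk z)).isWeaklyRegular_congr rs).1
      hrs.isWeaklyRegular_rTensor
  have hreg : ∀ x t, IsWeaklyRegular (S.presheaf.stalk s) (x :: t) → rs = x :: t →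
      ∀ z (h : f z ⤳ s) (v : F.presheaf.stalk z), alpha z h x • v = 0 → v = 0 := by
    intro x t _ e z h v hv
    have hz := hloc z h
    rw [e] at hz
    letI : Module (S.presheaf.stalk s) (F.presheaf.stalk z) := Module.compHom _ (alpha z h)
    exact ((isWeaklyRegular_cons_iff _ x t).1 hz).1.right_eq_zero_of_smul hv
  match rs, hlen, hrs, hloc, hreg with
  | [], _, _, _, _ => exact IsWeaklyRegular.nil _ _
  | x :: t, hlen, hrs, hloc, hreg =>
    have hx := hreg x t hrs rfl
    have hxM : IsSMulRegular (St f s F) x := isSMulRegular_iff_right_eq_zero_of_smul.2 fun m hm =>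
      phi_injective F m fun z h => hx z h _ (by rw [← phi_smul, hm, map_zero])
    match t, hlen with
    | [], _ => exact (isWeaklyRegular_singleton_iff _ x).2 hxM
    | [y], _ =>
      refine (isWeaklyRegular_cons_iff _ x [y]).2 ⟨hxM, (isWeaklyRegular_singleton_iff _ y).2 ?_⟩
      refine isSMulRegular_iff_right_eq_zero_of_smul.2 fun q hq => ?_
      obtain ⟨m, rfl⟩ := Submodule.Quotient.mk_surjective _ q
      rw [← Submodule.Quotient.mk_smul, Submodule.Quotient.mk_eq_zero,
        Submodule.mem_smul_pointwise_iff_exists] at hq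
      obtain ⟨w, -, hw⟩ := hq
      obtain ⟨n, hn⟩ := exists_solution F (fun _ : PUnit => x) (fun _ => m) (fun z h v hv => hx z h v (hv ⟨⟩))
        fun z h => by
          have hq' := hloc z h
          letI : Module (S.presheaf.stalk s) (F.presheaf.stalk z) := Module.compHom _ (alpha z h)
          have h2 := (isWeaklyRegular_singleton_iff _ y).1 ((isWeaklyRegular_cons_iff _ x [y]).1 hq').2
          have h3 : y • Submodule.Quotient.mk (p := x • (⊤ : Submodule (S.presheaf.stalk s) (F.presheaf.stalk z)))
              (phi F z h m) = 0 := by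
            rw [← Submodule.Quotient.mk_smul, Submodule.Quotient.mk_eq_zero,
              Submodule.mem_smul_pointwise_iff_exists]
            refine ⟨phi F z h w, trivial, ?_⟩
            show alpha z h x • phi F z h w = alpha z h y • phi F z h m
            rw [← phi_smul, ← phi_smul, hw]
          have h4 := h2.right_eq_zero_of_smul h3
          rw [Submodule.Quotient.mk_eq_zero, Submodule.mem_smul_pointwise_iff_exists] at h4
          obtain ⟨v, -, hv⟩ := h4
          exact ⟨v, fun _ => hv⟩
      rw [Submodule.Quotient.mk_eq_zero, Submodule.mem_smul_pointwise_iff_exists]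
      exact ⟨n, trivial, hn ⟨⟩⟩

omit [Module.Finite (S.presheaf.stalk s) (St f s F)] in
theorem min_two_depth_le (hF : FlatMod.IsFlatOver f F) :
    min (2 : ℕ∞) (_root_.LocCoh.depth (S.presheaf.stalk s) (S.presheaf.stalk s)) ≤
      _root_.LocCoh.depth (S.presheaf.stalk s) (St f s F) := by
  have hR : ¬ (maximalIdeal (S.presheaf.stalk s) •
      (⊤ : Submodule (S.presheaf.stalk s) (S.presheaf.stalk s)) = ⊤) := by
    rw [smul_eq_mul, Ideal.mul_top]
    exact (IsLocalRing.maximalIdeal.isMaximal _).ne_top
  simp only [_root_.LocCoh.depth, _root_.LocCoh.idealDepth]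
  rw [if_neg hR]
  split_ifs
  · exact le_top
  refine le_of_forall_lt fun c hc => ?_
  rw [lt_min_iff] at hc
  obtain ⟨hc2, hc⟩ := hc
  simp only [lt_iSup_iff] at hc
  obtain ⟨rs, ⟨hrs, hm⟩, hlt⟩ := hc
  have hpre : IsWeaklyRegular (S.presheaf.stalk s) (rs.take 2) := by
    rw [← List.take_append_drop 2 rs, isWeaklyRegular_append_iff] at hrs
    exact hrs.1
  refine lt_of_lt_of_le ?_ (le_iSup₂ (f := fun (l : List (S.presheaf.stalk s)) _ => (l.length : ℕ∞)) (rs.take 2)
    ⟨isWeaklyRegular_of_flat F hF _ (List.length_take_le _ _) hpre, fun r hr => hm r (List.mem_of_mem_take hr)⟩)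
  rw [List.length_take]
  rcases le_total 2 rs.length with h2 | h2
  · rw [min_eq_left h2]; exact_mod_cast hc2
  · rw [min_eq_right h2]; exact hlt

end

end Groth.Agent.PushDepth8
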