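import Groth.Agent.QCohLoc.Basic
import Groth.Agent.H8Lim.ProConsLimit
import Groth.Agent.H8ProCons.Image
import Groth.Agent.Desc19b.QuasiFlat
import Groth.Agent.PicLib.FiniteSetTriv
import Mathlib

/-!
# Sections of a direct image near a point are determined at the stalks over its generalizations
-/

set_option autoImplicit false
set_option linter.style.haveILetI false
set_option backward.isDefEq.respectTransparency false
set_option backward.isDefEq.respectTransparency.types false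

universe u

open CategoryTheory AlgebraicGeometry TopologicalSpace Opposite

namespace Groth.Agent.PushDepth8

variable {X S : Scheme.{u}} (f : X ⟶ S) (s : S)

/-- An affine open meets an open containing all its points over generalizations of `s` in everything
near `s`. -/
theorem exists_nhd_affine {V : S.Opens} (hV : IsAffineOpen V) (hs : s ∈ V) {W : X.Opens} (hW : IsAffineOpen W)
    (hWV : W ≤ f ⁻¹ᵁ V) (O : X.Opens) (hO : ∀ z ∈ W, f z ⤳ s → z ∈ O) :
    ∃ V' : S.Opens, s ∈ V' ∧ W ⊓ f ⁻¹ᵁ V' ≤ O := by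
  haveI : IsAffine W.toScheme := hW
  haveI : IsAffine V.toScheme := hV
  let g : W.toScheme ⟶ V.toScheme := f.resLE V W hWV
  let Z : Set W.toScheme := {p | p.1 ∉ O}
  have hZ : IsClosed Z := O.isOpen.isClosed_compl.preimage continuous_subtype_val
  have hE := Desc19b.isProConstructible_image_closed g hZ
  let N : V.toScheme.Opens := ⟨(closure (g '' Z))ᶜ, isClosed_closure.isOpen_compl⟩
  refine ⟨V.ι ''ᵁ N, ⟨⟨s, hs⟩, fun hmem => ?_, rfl⟩, ?_⟩
  · obtain ⟨y, ⟨p, hp, rfl⟩, hy⟩ := (H8Lim.mem_closure_iff_exists_specializes hE).1 hmem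
    have h := hy.map V.ι.continuous
    rw [show V.ι (g p) = f p.1 from Scheme.Hom.coe_resLE_apply f hWV p] at h
    exact hp (hO _ p.2 h)
  · rintro z ⟨hzW, y, hy, hyz⟩
    by_contra hz
    refine hy (subset_closure ⟨⟨z, hzW⟩, hz, Subtype.ext ?_⟩)
    rw [show (g ⟨z, hzW⟩).1 = f z from Scheme.Hom.coe_resLE_apply f hWV ⟨z, hzW⟩]
    exact hyz.symm

/-- The same for a compact open. -/
theorem exists_nhd_compact {V : S.Opens} (hV : IsAffineOpen V) (hs : s ∈ V) {W : X.Opens}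
    (hW : IsCompact (W : Set X)) (hWV : W ≤ f ⁻¹ᵁ V) (O : X.Opens) (hO : ∀ z ∈ W, f z ⤳ s → z ∈ O) :
    ∃ V' : S.Opens, IsAffineOpen V' ∧ s ∈ V' ∧ V' ≤ V ∧ W ⊓ f ⁻¹ᵁ V' ≤ O := by
  obtain ⟨σ, hσ, hcov⟩ := (isCompact_and_isOpen_iff_finite_and_eq_biUnion_affineOpens).mp ⟨hW, W.2⟩
  have hle : ∀ k ∈ σ, k.1 ≤ W := fun k hk a ha ↦ hcov.ge (Set.mem_iUnion₂.mpr ⟨k, hk, ha⟩)
  haveI := hσ.fintype
  choose N hN hNO using fun k : σ =>
    exists_nhd_affine f s hV hs k.1.2 ((hle k.1 k.2).trans hWV) O fun z hz => hO z (hle k.1 k.2 hz)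
  have hop : IsOpen (⋂ k, (N k : Set S)) := isOpen_iInter_of_finite fun k => (N k).2
  obtain ⟨V', hV', hsV', hle'⟩ := exists_isAffineOpen_mem_and_subset (U := V ⊓ ⟨_, hop⟩)
    (show s ∈ V ⊓ ⟨_, hop⟩ from ⟨hs, Set.mem_iInter.2 hN⟩)
  refine ⟨V', hV', hsV', fun a ha => (hle' ha).1, ?_⟩
  rintro z ⟨hzW, hzV⟩
  obtain ⟨k, hk, hzk⟩ := Set.mem_iUnion₂.1 (hcov.le hzW)
  exact hNO ⟨k, hk⟩ ⟨hzk, Set.mem_iInter.1 (hle' hzV).2 ⟨k, hk⟩⟩

theorem res_res (F : X.Modules) {A B C : X.Opens} (h : A ≤ B) (h' : B ≤ C) (m : Γ(F, C)) :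
    F.presheaf.map (homOfLE h).op (F.presheaf.map (homOfLE h').op m) =
      F.presheaf.map (homOfLE (h.trans h')).op m := by
  rw [← ConcreteCategory.comp_apply, ← Functor.map_comp]
  rfl

theorem resX_res {A B C : X.Opens} (h : A ≤ B) (h' : B ≤ C) (m : Γ(X, C)) :
    X.presheaf.map (homOfLE h).op (X.presheaf.map (homOfLE h').op m) =
      X.presheaf.map (homOfLE (h.trans h')).op m := by
  rw [← ConcreteCategory.comp_apply, ← Functor.map_comp]
  rfl

theorem res_smul (F : X.Modules) {A B : X.Opens} (h : A ≤ B) (r : Γ(X, B)) (m : Γ(F, B)) :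
    F.presheaf.map (homOfLE h).op (r • m) =
      X.presheaf.map (homOfLE h).op r • F.presheaf.map (homOfLE h).op m :=
  F.map_smul _ r m

theorem isCompact_inter {P : X.Opens} [QuasiSeparatedSpace P.toScheme] {A B : X.Opens} (hA : A ≤ P) (hB : B ≤ P)
    (hAc : IsCompact (A : Set X)) (hBc : IsCompact (B : Set X)) : IsCompact ((A ⊓ B : X.Opens) : Set X) :=
  (isQuasiSeparated_iff_quasiSeparatedSpace (P : Set X) P.2).2 ‹_› _ _ hA A.2 hAc hB B.2 hBc

variable (F : X.Modules)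

/-- The stalk of the direct image. -/
abbrev St : Type u := ((Scheme.Modules.pushforward f).obj F).presheaf.stalk s

variable {f s}

/-- The map from the stalk of the direct image to the stalk at a point over a generalization. -/
noncomputable def phi (z : X) (h : f z ⤳ s) : St f s F →+ F.presheaf.stalk z :=
  (((Scheme.Modules.pushforward f).obj F).presheaf.stalkSpecializes h ≫
    TopCat.Presheaf.stalkPushforward Ab.{u} f.base F.presheaf z).hom

/-- The scalars. -/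
noncomputable def alpha (z : X) (h : f z ⤳ s) : S.presheaf.stalk s →+* X.presheaf.stalk z :=
  (S.presheaf.stalkSpecializes h ≫ f.stalkMap z).hom

theorem phi_germ (z : X) (h : f z ⤳ s) (V : S.Opens) (hs : s ∈ V)
    (m : Γ((Scheme.Modules.pushforward f).obj F, V)) :
    phi F z h (((Scheme.Modules.pushforward f).obj F).presheaf.germ V s hs m) =
      F.presheaf.germ (f ⁻¹ᵁ V) z (h.mem_open V.2 hs) m := by
  refine (congrArg (TopCat.Presheaf.stalkPushforward Ab.{u} f.base F.presheaf z).hom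
    (TopCat.Presheaf.germ_stalkSpecializes_apply _ hs h m)).trans ?_
  exact ConcreteCategory.congr_hom
    (TopCat.Presheaf.stalkPushforward_germ Ab.{u} f.base F.presheaf V z (h.mem_open V.2 hs)) m

theorem alpha_germ (z : X) (h : f z ⤳ s) (V : S.Opens) (hs : s ∈ V) (a : Γ(S, V)) :
    alpha z h (S.presheaf.germ V s hs a) = X.presheaf.germ (f ⁻¹ᵁ V) z (h.mem_open V.2 hs) (f.app V a) := by
  refine (congrArg (f.stalkMap z).hom (TopCat.Presheaf.germ_stalkSpecializes_apply _ hs h a)).trans ?_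
  exact Scheme.Hom.germ_stalkMap_apply f V z _ a

theorem phi_smul (z : X) (h : f z ⤳ s) (a : S.presheaf.stalk s) (m : St f s F) :
    phi F z h (a • m) = alpha z h a • phi F z h m := by
  obtain ⟨U, hU, a, rfl⟩ := S.presheaf.exists_germ_eq a
  obtain ⟨V, hV, m, rfl⟩ := ((Scheme.Modules.pushforward f).obj F).presheaf.exists_germ_eq m
  let W := U ⊓ V
  have hW : s ∈ W := ⟨hU, hV⟩
  rw [← S.presheaf.germ_res_apply (homOfLE (inf_le_left : W ≤ U)) s hW a,
    ← ((Scheme.Modules.pushforward f).obj F).presheaf.germ_res_apply (homOfLE (inf_le_right : W ≤ V)) s hW m,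
    ← QCohLoc.germ_smul' ((Scheme.Modules.pushforward f).obj F) hW, phi_germ, phi_germ, alpha_germ]
  exact QCohLoc.germ_smul' F (x := z) (V := f ⁻¹ᵁ W) (h.mem_open W.2 hW) _ _

section

variable [QuasiCompact f]

/-- A germ of the direct image vanishing over all generalizations is zero. -/
theorem phi_injective (m : St f s F) (hm : ∀ z (h : f z ⤳ s), phi F z h m = 0) : m = 0 := by
  obtain ⟨U, hU, m, rfl⟩ := ((Scheme.Modules.pushforward f).obj F).presheaf.exists_germ_eq m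
  obtain ⟨V, hV, hsV, hVU⟩ := exists_isAffineOpen_mem_and_subset hU
  have hVU : V ≤ U := hVU
  let m' : Γ(F, f ⁻¹ᵁ V) := F.presheaf.map (homOfLE (f.preimage_mono hVU)).op m
  have hg : ∀ z ∈ f ⁻¹ᵁ V, f z ⤳ s → ∃ O : X.Opens, z ∈ O ∧ ∃ hO : O ≤ f ⁻¹ᵁ V,
      F.presheaf.map (homOfLE hO).op m' = 0 := by
    intro z hz h
    have e : F.presheaf.germ (f ⁻¹ᵁ V) z hz m' = F.presheaf.germ (f ⁻¹ᵁ V) z hz 0 := by
      rw [map_zero, TopCat.Presheaf.germ_res_apply]
      have := hm z h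
      rwa [phi_germ] at this
    obtain ⟨O, hzO, i₁, i₂, ei⟩ := F.presheaf.germ_eq z hz hz _ _ e
    exact ⟨O, hzO, leOfHom i₁, by rw [map_zero] at ei; exact ei⟩
  let O : X.Opens := sSup {O | ∃ hO : O ≤ f ⁻¹ᵁ V, F.presheaf.map (homOfLE hO).op m' = 0}
  obtain ⟨V', hV', hsV', hV'V, hle⟩ := exists_nhd_compact f s hV hsV (W := f ⁻¹ᵁ V)
    (f.isCompact_preimage hV.isCompact) le_rfl O fun z hz h => by
      obtain ⟨O', hzO', hO'⟩ := hg z hz h
      exact Opens.mem_sSup.2 ⟨O', hO', hzO'⟩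
  have h0 : F.presheaf.map (homOfLE (f.preimage_mono (hV'V.trans hVU))).op m = 0 := by
    refine TopCat.Sheaf.eq_of_locally_eq' ⟨F.presheaf, F.isSheaf⟩
      (fun O : {O : X.Opens // ∃ hO : O ≤ f ⁻¹ᵁ V, F.presheaf.map (homOfLE hO).op m' = 0} => O.1 ⊓ f ⁻¹ᵁ V')
      (f ⁻¹ᵁ V') (fun _ => homOfLE inf_le_right) (fun z hz => ?_) _ _ fun O => ?_
    · obtain ⟨O', hO', hz'⟩ := Opens.mem_sSup.1 (hle ⟨f.preimage_mono hV'V hz, hz⟩)
      exact Opens.mem_iSup.2 ⟨⟨O', hO'⟩, hz', hz⟩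
    · obtain ⟨hO, e⟩ := O.2
      have := congrArg (F.presheaf.map (homOfLE (inf_le_left : O.1 ⊓ f ⁻¹ᵁ V' ≤ O.1)).op) e
      rw [← ConcreteCategory.comp_apply, ← ConcreteCategory.comp_apply, ← Functor.map_comp,
        ← Functor.map_comp, map_zero] at this
      rw [map_zero]
      show (F.presheaf.map _ ≫ F.presheaf.map _) m = 0
      rw [← Functor.map_comp]
      exact this
  rw [← ((Scheme.Modules.pushforward f).obj F).presheaf.germ_res_apply (homOfLE (hV'V.trans hVU)) s hsV' m]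
  exact (congrArg _ h0).trans (map_zero _)

variable [QuasiSeparated f]

/-- A linear system solved uniquely at all points over generalizations of `s` has a solution in the
stalk of the direct image. -/
theorem exists_solution {ι : Type} [Finite ι] (a : ι → S.presheaf.stalk s) (w : ι → St f s F)
    (hinj : ∀ z (h : f z ⤳ s) (v : F.presheaf.stalk z), (∀ i, alpha z h (a i) • v = 0) → v = 0)
    (hsol : ∀ z (h : f z ⤳ s), ∃ v, ∀ i, alpha z h (a i) • v = phi F z h (w i)) :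
    ∃ n : St f s F, ∀ i, a i • n = w i := by
  classical
  choose Ua hUa a₀ ha₀ using fun i => S.presheaf.exists_germ_eq (a i)
  choose Uw hUw w₀ hw₀ using fun i => ((Scheme.Modules.pushforward f).obj F).presheaf.exists_germ_eq (w i)
  have hop : IsOpen (⋂ i, ((Ua i ⊓ Uw i : S.Opens) : Set S)) := isOpen_iInter_of_finite fun i => (Ua i ⊓ Uw i).2
  obtain ⟨V, hV, hsV, hVle⟩ := exists_isAffineOpen_mem_and_subset (U := ⟨_, hop⟩)
    (show s ∈ (⟨_, hop⟩ : S.Opens) from Set.mem_iInter.2 fun i => ⟨hUa i, hUw i⟩)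
  have ha' : ∀ i, V ≤ Ua i := fun i y hy => (Set.mem_iInter.1 (hVle hy) i).1
  have hw' : ∀ i, V ≤ Uw i := fun i y hy => (Set.mem_iInter.1 (hVle hy) i).2
  let P := f ⁻¹ᵁ V
  let A : ι → Γ(X, P) := fun i => f.app V (S.presheaf.map (homOfLE (ha' i)).op (a₀ i))
  let B : ι → Γ(F, P) := fun i => ((Scheme.Modules.pushforward f).obj F).presheaf.map (homOfLE (hw' i)).op (w₀ i)
  have hA : ∀ i z (hz : z ∈ P) (h : f z ⤳ s), X.presheaf.germ P z hz (A i) = alpha z h (a i) := fun i z hz h => by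
    rw [← ha₀ i, ← S.presheaf.germ_res_apply (homOfLE (ha' i)) s hsV (a₀ i), alpha_germ]
  have hB : ∀ i z (hz : z ∈ P) (h : f z ⤳ s), F.presheaf.germ P z hz (B i) = phi F z h (w i) := fun i z hz h => by
    rw [← hw₀ i, ← ((Scheme.Modules.pushforward f).obj F).presheaf.germ_res_apply (homOfLE (hw' i)) s hsV (w₀ i),
      phi_germ]
  -- local solutions
  let Good : X.Opens → Prop := fun W => ∃ hW : W ≤ P, IsAffineOpen W ∧ ∃ v : Γ(F, W), ∀ i,
    X.presheaf.map (homOfLE hW).op (A i) • v = F.presheaf.map (homOfLE hW).op (B i)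
  have hloc : ∀ z ∈ P, f z ⤳ s → ∃ W, Good W ∧ z ∈ W := by
    intro z hz h
    obtain ⟨v, hv⟩ := hsol z h
    obtain ⟨W₀, hzW₀, v₀, rfl⟩ := F.presheaf.exists_germ_eq v
    let W₁ := W₀ ⊓ P
    have hzW₁ : z ∈ W₁ := ⟨hzW₀, hz⟩
    have he : ∀ i, F.presheaf.germ W₁ z hzW₁ (X.presheaf.map (homOfLE (inf_le_right : W₁ ≤ P)).op (A i) •
        F.presheaf.map (homOfLE (inf_le_left : W₁ ≤ W₀)).op v₀) =
        F.presheaf.germ W₁ z hzW₁ (F.presheaf.map (homOfLE (inf_le_right : W₁ ≤ P)).op (B i)) := fun i => by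
      rw [QCohLoc.germ_smul', TopCat.Presheaf.germ_res_apply, TopCat.Presheaf.germ_res_apply,
        TopCat.Presheaf.germ_res_apply, hA i z hz h, hB i z hz h]
      exact hv i
    choose O hzO i₁ i₂ ei using fun i => F.presheaf.germ_eq z hzW₁ hzW₁ _ _ (he i)
    have hop' : IsOpen (⋂ i, ((O i : X.Opens) : Set X)) := isOpen_iInter_of_finite fun i => (O i).2
    obtain ⟨W, hW, hzW, hle⟩ := exists_isAffineOpen_mem_and_subset (U := W₁ ⊓ ⟨_, hop'⟩)
      (show z ∈ W₁ ⊓ ⟨_, hop'⟩ from ⟨hzW₁, Set.mem_iInter.2 hzO⟩)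
    have h1 : W ≤ W₁ := fun y hy => (hle hy).1
    refine ⟨W, ⟨h1.trans inf_le_right, hW, F.presheaf.map (homOfLE (h1.trans inf_le_left)).op v₀, fun i => ?_⟩, hzW⟩
    have h2 : W ≤ O i := fun y hy => Set.mem_iInter.1 (hle hy).2 i
    have := congrArg (F.presheaf.map (homOfLE h2).op) (ei i)
    rw [show i₁ i = homOfLE (leOfHom (i₁ i)) from rfl, show i₂ i = homOfLE (leOfHom (i₂ i)) from rfl,
      res_res, res_res, res_smul, res_res, res_res, resX_res] at this
    exact this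
  obtain ⟨V₁, hV₁, hsV₁, hV₁V, hcov⟩ := exists_nhd_compact f s hV hsV (f.isCompact_preimage hV.isCompact) le_rfl
    (sSup {W | Good W}) fun z hz h => by
      obtain ⟨W, hW, hzW⟩ := hloc z hz h
      exact Opens.mem_sSup.2 ⟨W, hW, hzW⟩
  obtain ⟨t, ht⟩ := (f.isCompact_preimage hV₁.isCompact).elim_finite_subcover
    (fun W : {W // Good W} => (W.1 : Set X)) (fun W => W.1.2) fun z hz => by
      obtain ⟨W, hW, hzW⟩ := Opens.mem_sSup.1 (hcov ⟨f.preimage_mono hV₁V hz, hz⟩)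
      exact Set.mem_iUnion.2 ⟨⟨W, hW⟩, hzW⟩
  choose hWP hWa v hv using fun W : t => W.1.2
  -- agreement on overlaps near the point
  haveI : IsAffine V.toScheme := hV
  haveI : QuasiSeparatedSpace (P.toScheme) := quasiSeparatedSpace_of_quasiSeparated (f ∣_ V)
  have hcomp : ∀ W W' : t, IsCompact ((W.1.1 ⊓ W'.1.1 : X.Opens) : Set X) := fun W W' =>
    isCompact_inter (hWP W) (hWP W') (hWa W).isCompact (hWa W').isCompact
  have hagree : ∀ p : t × t, ∃ V' : S.Opens, IsAffineOpen V' ∧ s ∈ V' ∧ V' ≤ V₁ ∧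
      ∀ (O : X.Opens) (h₁ : O ≤ p.1.1.1) (h₂ : O ≤ p.2.1.1), O ≤ f ⁻¹ᵁ V' →
        F.presheaf.map (homOfLE h₁).op (v p.1) = F.presheaf.map (homOfLE h₂).op (v p.2) := by
    rintro ⟨W, W'⟩
    let Q := W.1.1 ⊓ W'.1.1 ⊓ f ⁻¹ᵁ V₁
    let Eq : X.Opens → Prop := fun O => ∃ (h₁ : O ≤ W.1.1) (h₂ : O ≤ W'.1.1),
      F.presheaf.map (homOfLE h₁).op (v W) = F.presheaf.map (homOfLE h₂).op (v W')
    have hQ : ∀ z ∈ Q, f z ⤳ s → z ∈ sSup {O | Eq O} := by
      intro z hz h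
      have hzP : z ∈ P := hWP W hz.1.1
      have e : F.presheaf.germ W.1.1 z hz.1.1 (v W) = F.presheaf.germ W'.1.1 z hz.1.2 (v W') := by
        refine sub_eq_zero.1 (hinj z h _ fun i => ?_)
        have e1 := congrArg (F.presheaf.germ W.1.1 z hz.1.1) (hv W i)
        have e2 := congrArg (F.presheaf.germ W'.1.1 z hz.1.2) (hv W' i)
        rw [QCohLoc.germ_smul', TopCat.Presheaf.germ_res_apply, TopCat.Presheaf.germ_res_apply,
          hA i z hzP h, hB i z hzP h] at e1 e2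
        rw [smul_sub, e1, e2, sub_self]
      obtain ⟨O, hzO, i₁, i₂, ei⟩ := F.presheaf.germ_eq z hz.1.1 hz.1.2 _ _ e
      exact Opens.mem_sSup.2 ⟨O, ⟨leOfHom i₁, leOfHom i₂, ei⟩, hzO⟩
    haveI : IsAffine V₁.toScheme := hV₁
    haveI : QuasiSeparatedSpace (f ⁻¹ᵁ V₁).toScheme := quasiSeparatedSpace_of_quasiSeparated (f ∣_ V₁)
    have hQc : IsCompact (Q : Set X) := by
      exact isCompact_inter (P := P) (inf_le_left.trans (hWP W)) (f.preimage_mono hV₁V) (hcomp W W')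
        (f.isCompact_preimage hV₁.isCompact)
    obtain ⟨V', hV', hsV', hle', hQO⟩ := exists_nhd_compact f s hV₁ hsV₁ hQc inf_le_right _ hQ
    refine ⟨V', hV', hsV', hle', fun O h₁ h₂ hO => ?_⟩
    refine TopCat.Sheaf.eq_of_locally_eq' ⟨F.presheaf, F.isSheaf⟩ (fun O' : {O' // Eq O'} => O'.1 ⊓ O)
      O (fun _ => homOfLE inf_le_right) (fun z hz => ?_) _ _ fun O' => ?_
    · obtain ⟨O', hO', hz'⟩ := Opens.mem_sSup.1 (hQO ⟨⟨⟨h₁ hz, h₂ hz⟩, f.preimage_mono hle' (hO hz)⟩, hO hz⟩)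
      exact Opens.mem_iSup.2 ⟨⟨O', hO'⟩, hz', hz⟩
    · obtain ⟨i₁, i₂, e⟩ := O'.2
      show (F.presheaf.map _ ≫ F.presheaf.map _) (v W) = (F.presheaf.map _ ≫ F.presheaf.map _) (v W')
      rw [← Functor.map_comp, ← Functor.map_comp]
      have := congrArg (F.presheaf.map (homOfLE (inf_le_left : O'.1 ⊓ O ≤ O'.1)).op) e
      rw [← ConcreteCategory.comp_apply, ← ConcreteCategory.comp_apply, ← Functor.map_comp,
        ← Functor.map_comp] at this
      exact this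
  choose V' hV' hsV' hV'le hV'eq using hagree
  have hop₂ : IsOpen (⋂ p, ((V' p : S.Opens) : Set S)) := isOpen_iInter_of_finite fun p => (V' p).2
  let V₂ : S.Opens := V₁ ⊓ ⟨_, hop₂⟩
  have hsV₂ : s ∈ V₂ := ⟨hsV₁, Set.mem_iInter.2 hsV'⟩
  let U : t → X.Opens := fun W => W.1.1 ⊓ f ⁻¹ᵁ V₂
  have hU : f ⁻¹ᵁ V₂ ≤ iSup U := fun z hz => by
    obtain ⟨W, hWt, hzW⟩ := Set.mem_iUnion₂.1 (ht (f.preimage_mono inf_le_left hz))
    exact Opens.mem_iSup.2 ⟨⟨W, hWt⟩, hzW, hz⟩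
  obtain ⟨n₀, hn₀, -⟩ := TopCat.Sheaf.existsUnique_gluing' ⟨F.presheaf, F.isSheaf⟩ U (f ⁻¹ᵁ V₂)
    (fun W => homOfLE inf_le_right) hU (fun W => F.presheaf.map (homOfLE (inf_le_left : U W ≤ W.1.1)).op (v W))
    (fun W W' => by
      show (F.presheaf.map _ ≫ F.presheaf.map _) (v W) = (F.presheaf.map _ ≫ F.presheaf.map _) (v W')
      rw [← Functor.map_comp, ← Functor.map_comp]
      exact hV'eq (W, W') _ (inf_le_left.trans inf_le_left) (inf_le_right.trans inf_le_left)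
        (fun z hz => Set.mem_iInter.1 hz.1.2.2 (W, W')))
  refine ⟨((Scheme.Modules.pushforward f).obj F).presheaf.germ V₂ s hsV₂ n₀, fun i => sub_eq_zero.1 ?_⟩
  refine phi_injective F _ fun z h => ?_
  have hz₂ : z ∈ f ⁻¹ᵁ V₂ := h.mem_open V₂.2 hsV₂
  obtain ⟨W, hzW⟩ := Opens.mem_iSup.1 (hU hz₂)
  have hzP : z ∈ P := hWP W hzW.1
  rw [map_sub, phi_smul, phi_germ]
  have e1 := congrArg (F.presheaf.germ W.1.1 z hzW.1) (hv W i)
  rw [QCohLoc.germ_smul', TopCat.Presheaf.germ_res_apply, TopCat.Presheaf.germ_res_apply,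
    hA i z hzP h, hB i z hzP h] at e1
  have e2 := congrArg (F.presheaf.germ (U W) z hzW) (hn₀ W)
  rw [TopCat.Presheaf.germ_res_apply] at e2
  refine sub_eq_zero.2 (Eq.trans ?_ e1)
  exact congrArg _ (e2.trans (TopCat.Presheaf.germ_res_apply F.presheaf (homOfLE (inf_le_left : U W ≤ W.1.1)) z hzW (v W)))

end

end Groth.Agent.PushDepth8
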